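import Cfsg.Agent.Omega.EH3.UFour.Mod
import Cfsg.Agent.Mrg.Omega.FrameI
import Cfsg.Agent.R08.ModLab
import Cfsg.Agent.LargeExtra.Local
import Cfsg.Agent.R08.FrameAGroup
import Cfsg.Agent.R08.FrameAWeights

section


/-!
# EH3, row U4(3): centralisers of `R`-type involutions of `Q` (helper586)

`Q = 2^(1+12)`, `FrameData h N M F4` with the standard labelling (`C_G(z)/Q` of type `3·U₄(3)`, any index), `C_G(x)` of
characteristic 2 for every involution `x`.

* `le_cent` : `x ∈ Q` an involution of `R`-type: `C_G(x) ≤ C_G(z)`;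
* `false_of_pair` : there is no pair `(z, a)` with `|D̃| > 4`.
-/

set_option autoImplicit false

namespace Cfsg.Agent.Omega.EH3.UFour.Kill

open Cfsg Subgroup Cfsg.Agent.ZN Cfsg.Agent.MinSimple.VModule
open Cfsg.Agent.SporRec.GF4 Cfsg.Agent.R08.ModVec Cfsg.Agent.R08.ModMono Cfsg.Agent.R08.Frame
open Cfsg.Agent.R08.ModOrb Cfsg.Agent.R08.ModIso Cfsg.Agent.R08.ModTau Cfsg.Agent.R08.ModSig
open Cfsg.Agent.R08.ModTriv Cfsg.Agent.R08.ModFrame Cfsg.Agent.R08.ModLab Cfsg.Agent.Co2Type.Quad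
open Cfsg.Agent.Omega.EH3.UFour.Mod
open scoped commutatorElement

/-! ### noncommuting pairs in subgroups of index two -/

section pairs

variable {G : Type*} [Group G]

theorem step {P S : Subgroup G} (h2 : ∀ a ∈ P, ∀ b ∈ P, a ∉ S → b ∉ S → a * b ∈ S) {e f : G} (he : e ∈ P)
    (hf : f ∈ P) (hef : e * f ≠ f * e) :
    ∃ k ∈ P, k ∈ S ∧ ∃ m ∈ P, k * m ≠ m * k ∧ (∀ y, Commute y e → Commute y f → Commute y k) ∧
      (∀ y, Commute y e → Commute y f → Commute y m) := by
  by_cases h1 : e ∈ S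
  · exact ⟨e, he, h1, f, hf, hef, fun y h _ => h, fun y _ h => h⟩
  · by_cases h3 : f ∈ S
    · exact ⟨f, hf, h3, e, he, hef.symm, fun y _ h => h, fun y h _ => h⟩
    · refine ⟨e * f, mul_mem he hf, h2 e he f hf h1 h3, e, he, ?_, fun y h h' => h.mul_right h', fun y h _ => h⟩
      intro h4
      apply hef
      rw [mul_assoc] at h4
      exact (mul_left_cancel h4).symm

/-- a subgroup of index at most two of a group with two commuting noncommuting pairs is not abelian -/
theorem exists_pair {P S : Subgroup G} (h2 : ∀ a ∈ P, ∀ b ∈ P, a ∉ S → b ∉ S → a * b ∈ S) {e f e' f' : G}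
    (he : e ∈ P) (hf : f ∈ P) (he' : e' ∈ P) (hf' : f' ∈ P) (hef : e * f ≠ f * e) (hef' : e' * f' ≠ f' * e')
    (c1 : Commute e e') (c2 : Commute e f') (c3 : Commute f e') (c4 : Commute f f') :
    ∃ a ∈ P, a ∈ S ∧ ∃ b ∈ P, b ∈ S ∧ a * b ≠ b * a := by
  obtain ⟨k, hk, hkS, m, hm, hkm, k1, k2⟩ := step h2 he hf hef
  obtain ⟨k', hk', hkS', m', hm', hkm', k1', k2'⟩ := step h2 he' hf' hef'
  by_cases h3 : m ∈ S
  · exact ⟨k, hk, hkS, m, hm, h3, hkm⟩
  by_cases h4 : m' ∈ S
  · exact ⟨k', hk', hkS', m', hm', h4, hkm'⟩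
  refine ⟨k, hk, hkS, m * m', mul_mem hm hm', h2 m hm m' hm' h3 h4, ?_⟩
  -- `k` commutes with `m'`
  have d1 : Commute k e' := (k1 e' c1.symm c3.symm).symm
  have d2 : Commute k f' := (k1 f' c2.symm c4.symm).symm
  have d3 : Commute k m' := k2' k d1 d2
  intro h5
  apply hkm
  have h6 : k * m * m' = m * k * m' := by
    calc k * m * m' = k * (m * m') := mul_assoc _ _ _
      _ = m * m' * k := h5
      _ = m * (m' * k) := mul_assoc _ _ _
      _ = m * (k * m') := by rw [d3.eq]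
      _ = m * k * m' := (mul_assoc _ _ _).symm
  exact mul_right_cancel h6

end pairs

/-! ### the labels of elements -/

section labels

variable {G : Type*} [Group G] {Q : Subgroup G} {z : G} {h : Large Q z}
  {N M : Subgroup (Subgroup.centralizer ({z} : Set G))}

/-- the label of an element of `Q` -/
noncomputable def lb (fd : FrameData h N M F4) (y : Q) : W := fd.lab (h.pr y)

theorem lb_surj (fd : FrameData h N M F4) (w : W) : ∃ y : Q, lb fd y = w := by
  obtain ⟨v, rfl⟩ := fd.lab.surjective w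
  obtain ⟨y, rfl⟩ := h.pr_surjective v
  exact ⟨y, rfl⟩

theorem lb_mul (fd : FrameData h N M F4) (x y : Q) : lb fd (x * y) = lb fd x + lb fd y := by
  unfold lb
  rw [h.pr_mul, map_add]

theorem lb_one (fd : FrameData h N M F4) : lb fd 1 = 0 := by
  unfold lb
  rw [h.pr_one, map_zero]

theorem lb_eq (fd : FrameData h N M F4) {x y : Q} (hxy : lb fd x = lb fd y) : (x : G) = y ∨ (x : G) = y * z :=
  h.pr_eq_pr.1 (fd.lab.injective hxy)

theorem lb_conj (fd : FrameData h N M F4) (c : Subgroup.centralizer ({z} : Set G)) (y : Q) :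
    lb fd (h.conjQ c y) = fn fd c (lb fd y) := by
  unfold lb
  rw [fn_lab, h.act_pr]

theorem lb_comm (fd : FrameData h N M F4) (x y : Q) :
    (x : G) * y = y * x ↔ herm (lb fd x) (lb fd y) = 0 ∨ herm (lb fd x) (lb fd y) = 1 :=
  (h.b_pr x y).symm.trans (fd.b_lab _ _)

theorem fn_zero (fd : FrameData h N M F4) (c : Subgroup.centralizer ({z} : Set G)) : fn fd c 0 = 0 := by
  unfold fn
  rw [map_zero, map_zero, map_zero]

theorem fn_add (fd : FrameData h N M F4) (c : Subgroup.centralizer ({z} : Set G)) (u v : W) :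
    fn fd c (u + v) = fn fd c u + fn fd c v := by
  unfold fn
  rw [map_add, map_add, map_add]

theorem fn_of_mem (fd : FrameData h N M F4) {c : Subgroup.centralizer ({z} : Set G)} (hc : (c : G) ∈ Q) (w : W) :
    fn fd c w = w := by
  unfold fn
  rw [h.act_mem c hc]
  exact fd.lab.apply_symm_apply w

theorem mem_of_fn [Finite Q] (fd : FrameData h N M F4) {c : Subgroup.centralizer ({z} : Set G)}
    (hc : ∀ w, fn fd c w = w) : (c : G) ∈ Q := by
  apply h.mem_of_act
  ext v
  have h1 := hc (fd.lab v)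
  rw [fn_lab] at h1
  exact fd.lab.injective h1

/-- an element commuting with `z` as an element of the centraliser -/
abbrev cz {g : G} (hg : g * z = z * g) : Subgroup.centralizer ({z} : Set G) :=
  ⟨g, mem_centralizer_singleton_iff.2 hg⟩

/-- the action of a subgroup of `C_G(z)` on the labels -/
noncomputable abbrev actW (fd : FrameData h N M F4) (F : Subgroup G) (hF : ∀ f ∈ F, f * z = z * f) :
    DistribMulAction F W where
  smul f w := fn fd (cz (hF f f.2)) w
  one_smul w := fn_one fd w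
  mul_smul f g w := fn_mul fd (cz (hF f f.2)) (cz (hF g g.2)) w
  smul_zero f := fn_zero fd (cz (hF f f.2))
  smul_add f u v := fn_add fd (cz (hF f f.2)) u v

/-- the preimage in `Q` of the vectors with `v 0 = v 1 = 0` -/
def E4 (fd : FrameData h N M F4) : Subgroup G where
  carrier := {y | ∃ hy : y ∈ Q, lb fd ⟨y, hy⟩ 0 = 0 ∧ lb fd ⟨y, hy⟩ 1 = 0}
  one_mem' := ⟨one_mem Q, by
    have : (⟨1, one_mem Q⟩ : Q) = 1 := rfl
    rw [this, lb_one]
    exact ⟨rfl, rfl⟩⟩
  mul_mem' := by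
    rintro x y ⟨hx, hx0, hx1⟩ ⟨hy, hy0, hy1⟩
    refine ⟨mul_mem hx hy, ?_⟩
    have : (⟨x * y, mul_mem hx hy⟩ : Q) = ⟨x, hx⟩ * ⟨y, hy⟩ := rfl
    rw [this, lb_mul, Pi.add_apply, Pi.add_apply, hx0, hx1, hy0, hy1]
    exact ⟨rfl, rfl⟩
  inv_mem' := by
    rintro x ⟨hx, hx0, hx1⟩
    refine ⟨inv_mem hx, ?_⟩
    have h1 : lb fd ⟨x⁻¹, inv_mem hx⟩ = lb fd ⟨x, hx⟩ := by
      have h2 : lb fd (⟨x⁻¹, inv_mem hx⟩ * ⟨x, hx⟩) = lb fd 1 := by
        congr 1
        exact inv_mul_cancel (⟨x, hx⟩ : Q)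
      rw [lb_mul, lb_one] at h2
      have h3 : lb fd ⟨x⁻¹, inv_mem hx⟩ + lb fd ⟨x, hx⟩ + lb fd ⟨x, hx⟩ = 0 + lb fd ⟨x, hx⟩ := by rw [h2]
      rwa [add_assoc, W_add_self, add_zero, zero_add] at h3
    rw [h1]
    exact ⟨hx0, hx1⟩

end labels

/-! ### centralisers of `R`-type involutions -/

section main

variable {G : Type*} [Group G] {Q : Subgroup G} {z : G} {h : Large Q z}
  {N M : Subgroup (Subgroup.centralizer ({z} : Set G))}

/-- elements of `M` fixing the label `u2` of `x` lift to `C_G(z) ∩ C_G(x)` -/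
theorem exists_lift (fd : FrameData h N M F4) {x : Q} (hx1 : (x : G) ≠ 1) (hxz : (x : G) ≠ z)
    (hu : lb fd x = u2) {A : SL} (hA : A ∈ grp fd) (hA2 : A • u2 = u2) :
    ∃ (c : G) (hc : c * z = z * c), c * x = x * c ∧ ∀ w, fn fd (cz hc) w = A • w := by
  obtain ⟨m, hm, hmv⟩ := hA
  have hfm : ∀ w, fn fd m w = A • w := by
    intro w
    obtain ⟨v, rfl⟩ := fd.lab.surjective w
    rw [fn_lab, hmv]
  have hmz : (m : G) * z = z * m := mem_centralizer_singleton_iff.1 m.2
  have h1 : lb fd (h.conjQ m x) = lb fd x := by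
    rw [lb_conj, hfm, hu, hA2]
  rcases lb_eq fd h1 with h2 | h2
  · refine ⟨m, hmz, ?_, hfm⟩
    rw [h.conjQ_coe] at h2
    exact mul_inv_eq_iff_eq_mul.1 h2
  · obtain ⟨q, hq, hqx⟩ := Cfsg.Agent.Omega.Shadow.exists_fuse h x.2 hx1 hxz
    have hqz := h.comm_z q hq
    have hqz' : q⁻¹ * z = z * q⁻¹ := ((show Commute q z from hqz).inv_left).eq
    have hc : q⁻¹ * m * z = z * (q⁻¹ * m) := by
      rw [mul_assoc, hmz, ← mul_assoc, hqz', mul_assoc]
    refine ⟨q⁻¹ * m, hc, ?_, fun w => ?_⟩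
    · rw [h.conjQ_coe] at h2
      have h3 : (q⁻¹ * m) * x * (q⁻¹ * m)⁻¹ = x := by
        calc (q⁻¹ * m) * x * (q⁻¹ * m)⁻¹ = q⁻¹ * ((m : G) * x * (m : G)⁻¹) * q := by group
          _ = q⁻¹ * (q * x * q⁻¹) * q := by rw [h2, hqx]
          _ = x := by group
      exact mul_inv_eq_iff_eq_mul.1 h3
    · have h3 : (cz hc : Subgroup.centralizer ({z} : Set G)) = cz hqz' * m := rfl
      rw [h3, fn_mul, fn_of_mem fd (inv_mem hq), hfm]

theorem herm_ee (a : F4) (i : Fin 6) : herm (e i) (a • e i) = cj a := by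
  rw [herm_smul_right, herm_e, e_apply, if_pos rfl, mul_one]

theorem herm_ne {i j : Fin 6} (hij : i ≠ j) (a b : F4) : herm (a • e i) (b • e j) = 0 := by
  rw [herm_smul_right, herm_smul_left, herm_e, e_apply, if_neg hij.symm, mul_zero, mul_zero]

theorem isR_ne (fd : FrameData h N M F4) {x : Q} (hu : IsR (lb fd x)) : (x : G) ≠ 1 ∧ (x : G) ≠ z := by
  have h0 : h.pr x ≠ 0 := by
    intro h0
    apply isR_ne_zero hu
    unfold lb
    rw [h0, map_zero]
  exact ⟨fun h1 => h0 (h.pr_eq_zero.2 (Or.inl h1)), fun h1 => h0 (h.pr_eq_zero.2 (Or.inr h1))⟩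

/-- **`C_G(x) ≤ C_G(z)` for `x` with label `u2`** -/
theorem le_cent_u2 [Finite G] (fd : FrameData h N M F4) (hs : Std (grp fd)) (hN : N.Normal) (hM : M.Normal)
    {x : Q} (hx2 : (x : G) * x = 1) (hu : lb fd x = u2)
    (hC : centralizer ({(x : G)} : Set G) ⊓ centralizer (o2 (centralizer ({(x : G)} : Set G)) : Set G) ≤
      o2 (centralizer ({(x : G)} : Set G))) {t : G} (ht : t * x = x * t) : t * z = z * t := by
  classical
  obtain ⟨hx1, hxz⟩ := isR_ne fd (x := x) (by rw [hu]; exact isR_u2)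
  set Y : Subgroup G := centralizer ({(x : G)} : Set G) with hY
  set R : Subgroup G := o2 Y with hR
  have memY : ∀ {g : G}, g ∈ Y ↔ g * x = x * g := fun {g} => mem_centralizer_singleton_iff
  have hRY : R ≤ Y := o2_le Y
  have hYR : Y ≤ normalizer (R : Set G) := le_normalizer_o2 Y
  have hR2 : IsPGroup 2 R := o2_isPGroup Y
  set F : Subgroup G := R ⊓ centralizer ({z} : Set G) with hFdef
  have memF : ∀ {r : G}, r ∈ F ↔ r ∈ R ∧ r * z = z * r := fun {r} => by
    rw [hFdef, mem_inf, mem_centralizer_singleton_iff]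
  have hFz : ∀ f ∈ F, f * z = z * f := fun f hf => (memF.1 hf).2
  have hFx : ∀ f ∈ F, f * x = x * f := fun f hf => memY.1 (hRY (memF.1 hf).1)
  have hconjF : ∀ c : G, c * z = z * c → c * x = x * c → ∀ r ∈ F, c * r * c⁻¹ ∈ F := by
    intro c hcz hcx r hr
    have h1 := memF.1 hr
    refine memF.2 ⟨(mem_normalizer_iff.1 (hYR (memY.2 hcx)) r).1 h1.1, ?_⟩
    have h2 : Commute c z := hcz
    have h3 : Commute r z := h1.2
    exact ((h2.mul_left h3).mul_left h2.inv_left).eq
  let act : DistribMulAction F W := actW fd F hFz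
  have hsm : ∀ (f : F) (w : W), f • w = fn fd (cz (hFz f f.2)) w := fun _ _ => rfl
  have O : Oh (grp fd) F :=
    { two := hR2.to_le inf_le_left
      fix := by
        intro f
        rw [hsm, ← hu, ← lb_conj]
        congr 1
        apply Subtype.ext
        rw [h.conjQ_coe]
        show (f : G) * x * (f : G)⁻¹ = x
        rw [hFx f f.2]; group
      norm := by
        intro A hA hA2 f
        obtain ⟨c, hcz, hcx, hcA⟩ := exists_lift fd hx1 hxz hu hA hA2
        have hcz' : c⁻¹ * z = z * c⁻¹ := ((show Commute c z from hcz).inv_left).eq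
        have hcx' : c⁻¹ * x = x * c⁻¹ := ((show Commute c x from hcx).inv_left).eq
        refine ⟨⟨c⁻¹ * f * c, by
          have := hconjF c⁻¹ hcz' hcx' f f.2
          rwa [inv_inv] at this⟩, fun v => ?_⟩
        rw [hsm, hsm, ← hcA, ← hcA, ← fn_mul, ← fn_mul]
        congr 1
        apply Subtype.ext
        show (f : G) * c = c * (c⁻¹ * f * c)
        group
      kind := by
        intro f
        rcases semi fd hN (cz (hFz f f.2)) with h1 | h1
        · exact Or.inl ⟨fun a v => h1.1 a v, fun u v => h1.2 u v⟩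
        · right
          intro a w
          have := h1.1 a w
          rw [sq_eq_cj] at this
          exact this
      isR := by
        intro f v hv
        exact pres fd hM hs _ hv }
  have hcase : ∀ f (hf : f ∈ F), (∀ w, fn fd (cz (hFz f hf)) w = w) ∨
      (∀ w, fn fd (cz (hFz f hf)) w = tau u2 w) := fun f hf => O.main hs ⟨f, hf⟩
  -- (i)
  have h4 : ∀ f (_ : f ∈ F), ∀ y : Q, (y : G) ∈ E4 fd → f * y * f⁻¹ = y ∨ f * y * f⁻¹ = y * z := by
    rintro f hf y ⟨hy, hy0, hy1⟩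
    have h5 : lb fd (h.conjQ (cz (hFz f hf)) y) = lb fd y := by
      rw [lb_conj]
      rcases hcase f hf with h6 | h6
      · exact h6 _
      · rw [h6]
        apply tau_of_perp
        rw [herm_u2]
        have e0 : lb fd y 0 = 0 := hy0
        have e1 : lb fd y 1 = 0 := hy1
        rw [e0, e1, add_zero]
    rcases lb_eq fd h5 with h6 | h6
    · exact Or.inl h6
    · exact Or.inr h6
  -- (ii)
  have hprod : ∀ f ∈ F, ∀ g ∈ F, f ∉ Q → g ∉ Q → f * g ∈ Q := by
    intro f hf g hg hfQ hgQ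
    have h5 : ∀ {k : G} (hk : k ∈ F), k ∉ Q → ∀ w, fn fd (cz (hFz k hk)) w = tau u2 w := by
      intro k hk hkQ
      rcases hcase k hk with h6 | h6
      · exact absurd (mem_of_fn fd h6) hkQ
      · exact h6
    have h6 : (cz (hFz _ (mul_mem hf hg)) : Subgroup.centralizer ({z} : Set G)) = cz (hFz f hf) * cz (hFz g hg) := rfl
    have h7 := mem_of_fn fd (c := cz (hFz _ (mul_mem hf hg))) (by
      intro w
      rw [h6, fn_mul, h5 hf hfQ, h5 hg hgQ, tau_tau (herm_of_isR isR_u2)])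
    exact h7
  -- the labels of `F ∩ Q`
  let U0 : AddSubgroup W :=
    { carrier := {w | ∃ y : Q, (y : G) ∈ F ∧ lb fd y = w}
      zero_mem' := ⟨1, one_mem F, lb_one fd⟩
      add_mem' := by
        rintro _ _ ⟨y, hy, rfl⟩ ⟨y', hy', rfl⟩
        exact ⟨y * y', mul_mem hy hy', lb_mul fd y y'⟩
      neg_mem' := by
        rintro _ ⟨y, hy, rfl⟩
        refine ⟨y, hy, ?_⟩
        rw [eq_neg_iff_add_eq_zero, W_add_self] }
  have hU0 : ∀ {w : W}, w ∈ U0 ↔ ∃ y : Q, (y : G) ∈ F ∧ lb fd y = w := Iff.rfl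
  have hinv : Inv (grp fd) U0 := by
    rintro A hA hA2 _ ⟨y, hy, rfl⟩
    obtain ⟨c, hcz, hcx, hcA⟩ := exists_lift fd hx1 hxz hu hA hA2
    refine ⟨h.conjQ (cz hcz) y, hconjF c hcz hcx y hy, ?_⟩
    rw [lb_conj, hcA]
  -- four elements
  have hnc : ∀ (i : Fin 6) (y y' : Q), lb fd y = e i → lb fd y' = F4.w • e i → (y : G) * y' ≠ y' * y := by
    intro i y y' h1 h2 h3
    rw [lb_comm fd, h1, h2, herm_ee] at h3
    exact absurd h3 (by decide)
  have hcm : ∀ (y y' : Q) (i j : Fin 6) (a b : F4), i ≠ j → lb fd y = a • e i → lb fd y' = b • e j →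
      Commute (y : G) y' := by
    intro y y' i j a b hij h1 h2
    apply (lb_comm fd y y').2
    rw [h1, h2, herm_ne hij]
    exact Or.inl rfl
  have hone : ∀ i : Fin 6, (1 : F4) • e i = e i := fun i => one_smul _ _
  rcases dich hs.fr hinv with hα | hβ
  · -- case α
    exfalso
    obtain ⟨y2, hy2⟩ := lb_surj fd (e 2)
    obtain ⟨y2', hy2'⟩ := lb_surj fd (F4.w • e 2)
    obtain ⟨y3, hy3⟩ := lb_surj fd (e 3)
    obtain ⟨y3', hy3'⟩ := lb_surj fd (F4.w • e 3)
    have hmem : ∀ (y : Q) (i : Fin 6) (a : F4), i ≠ 0 → i ≠ 1 → lb fd y = a • e i → (y : G) ∈ E4 fd := by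
      intro y i a hi0 hi1 h1
      refine ⟨y.2, ?_⟩
      have e1 : (⟨(y : G), y.2⟩ : Q) = y := rfl
      rw [e1, h1, Pi.smul_apply, Pi.smul_apply, e_apply, e_apply, if_neg hi0.symm, if_neg hi1.symm, smul_zero]
      exact ⟨rfl, rfl⟩
    -- `F ∩ Q` centralises `E4`
    have hF0 : ∀ f ∈ F, f ∈ Q → ∀ y ∈ E4 fd, f * y = y * f := by
      rintro f hf hfQ y ⟨hy, hy0, hy1⟩
      have h1 := hα _ (hU0.2 ⟨⟨f, hfQ⟩, hf, rfl⟩)
      have h2 := (lb_comm fd ⟨f, hfQ⟩ ⟨y, hy⟩).2 (by
        left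
        rw [herm_eq, hy0, hy1, h1 2 (by decide) (by decide), h1 3 (by decide) (by decide),
          h1 4 (by decide) (by decide), h1 5 (by decide) (by decide), cj_zero]
        simp only [mul_zero, zero_mul, add_zero])
      exact h2
    have hidx : ∀ a ∈ E4 fd, ∀ b ∈ E4 fd, a ∉ centralizer (F : Set G) → b ∉ centralizer (F : Set G) →
        a * b ∈ centralizer (F : Set G) := by
      intro a ha b hb hca hcb
      -- `f a f⁻¹ = a z` for all `f ∈ F ∖ Q`
      have key : ∀ a ∈ E4 fd, a ∉ centralizer (F : Set G) → ∀ f ∈ F, f ∉ Q → f * a * f⁻¹ = a * z := by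
        intro a ha hca f hf hfQ
        obtain ⟨haQ, -, -⟩ := id ha
        have h1 : ∃ g ∈ F, g * a ≠ a * g := by
          by_contra hcon
          push Not at hcon
          exact hca (mem_centralizer_iff.2 fun g hg => hcon g hg)
        obtain ⟨g, hg, hga⟩ := h1
        have hgQ : g ∉ Q := fun hgQ => hga (hF0 g hg hgQ a ha)
        have h2 : g * a * g⁻¹ = a * z := by
          rcases h4 g hg ⟨a, haQ⟩ ha with h3 | h3
          · exact absurd (mul_inv_eq_iff_eq_mul.1 h3) hga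
          · exact h3
        have hu' : f * g ∈ Q := hprod f hf g hg hfQ hgQ
        have h3 := hF0 (f * g) (mul_mem hf hg) hu' a ha
        have hgz := hFz g hg
        have h5 : g⁻¹ * a * g = a * z := by
          have h6 : a = g⁻¹ * (a * z) * g := by rw [← h2]; group
          have h7 : g⁻¹ * z * g = z := by rw [mul_assoc, ← hgz]; group
          calc g⁻¹ * a * g = (g⁻¹ * a * g) * (z * z) := by rw [h.z_sq, mul_one]
            _ = (g⁻¹ * a * g) * z * z := (mul_assoc _ _ _).symm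
            _ = (g⁻¹ * a * g) * (g⁻¹ * z * g) * z := by rw [h7]
            _ = (g⁻¹ * (a * z) * g) * z := by group
            _ = a * z := by rw [← h6]
        calc f * a * f⁻¹ = (f * g) * (g⁻¹ * a * g) * (f * g)⁻¹ := by group
          _ = (f * g) * (a * z) * (f * g)⁻¹ := by rw [h5]
          _ = (f * g * a) * (z * (f * g)⁻¹) := by group
          _ = (a * (f * g)) * ((f * g)⁻¹ * z) := by
              rw [h3, ((show Commute (f * g) z from hFz _ (mul_mem hf hg)).inv_left).eq]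
          _ = a * z := by group
      rw [mem_centralizer_iff]
      intro f hf
      by_cases hfQ : f ∈ Q
      · exact hF0 f hf hfQ _ (mul_mem ha hb)
      · have h1 := key a ha hca f hf hfQ
        have h2 := key b hb hcb f hf hfQ
        obtain ⟨hbQ, -, -⟩ := id hb
        have h3 : f * (a * b) * f⁻¹ = a * b := by
          calc f * (a * b) * f⁻¹ = (f * a * f⁻¹) * (f * b * f⁻¹) := by group
            _ = a * (z * b) * z := by rw [h1, h2]; group
            _ = a * (b * z) * z := by rw [h.comm_z b hbQ]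
            _ = a * b * (z * z) := by group
            _ = a * b := by rw [h.z_sq, mul_one]
        exact mul_inv_eq_iff_eq_mul.1 h3
    obtain ⟨a, haE, haS, b, hbE, hbS, hab⟩ := exists_pair hidx
      (hmem y2 2 1 (by decide) (by decide) (by rw [hone]; exact hy2))
      (hmem y2' 2 _ (by decide) (by decide) hy2')
      (hmem y3 3 1 (by decide) (by decide) (by rw [hone]; exact hy3))
      (hmem y3' 3 _ (by decide) (by decide) hy3')
      (hnc 2 y2 y2' hy2 hy2') (hnc 3 y3 y3' hy3 hy3')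
      (hcm y2 y3 2 3 1 1 (by decide) (by rw [hone]; exact hy2) (by rw [hone]; exact hy3))
      (hcm y2 y3' 2 3 1 _ (by decide) (by rw [hone]; exact hy2) hy3')
      (hcm y2' y3 2 3 _ 1 (by decide) hy2' (by rw [hone]; exact hy3))
      (hcm y2' y3' 2 3 _ _ (by decide) hy2' hy3')
    obtain ⟨haQ, -, -⟩ := haE
    obtain ⟨hbQ, -, -⟩ := hbE
    have hx : (x : G) * z = z * x := h.comm_z x x.2
    refine Cfsg.Agent.Omega.ShadowComm.not_mem_commutator_o2 (x := (x : G)) hx2 hx h.z_sq h.z_ne hC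
      (E := Q ⊓ centralizer (F : Set G)) ?_ ?_ ?_
    · intro y hy
      exact h.comm_z y (mem_inf.1 hy).1
    · intro y hy f hf hfz
      exact (mem_centralizer_iff.1 (mem_inf.1 hy).2 f (memF.2 ⟨hf, hfz⟩)).symm
    · have h1 := Cfsg.Agent.Omega.Shadow.comm_eq h haQ hbQ hab
      rw [← h1]
      exact commutator_mem_commutator (mem_inf.2 ⟨haQ, haS⟩) (mem_inf.2 ⟨hbQ, hbS⟩)
  · -- case β
    have hex : ∀ (i : Fin 6) (a : F4), i ≠ 0 → i ≠ 1 → ∃ y : Q, (y : G) ∈ F ∧ lb fd y = a • e i := by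
      intro i a hi0 hi1
      apply hU0.1
      apply hβ
      · rw [Pi.smul_apply, e_apply, if_neg hi0.symm, smul_zero]
      · rw [Pi.smul_apply, e_apply, if_neg hi1.symm, smul_zero]
    obtain ⟨y2, hF2, hy2⟩ := hex 2 1 (by decide) (by decide)
    obtain ⟨y2', hF2', hy2'⟩ := hex 2 .w (by decide) (by decide)
    obtain ⟨y3, hF3, hy3⟩ := hex 3 1 (by decide) (by decide)
    obtain ⟨y3', hF3', hy3'⟩ := hex 3 .w (by decide) (by decide)
    have key : ∀ g : G, (∀ f ∈ F, g * f * g⁻¹ ∈ F) → g * z = z * g := by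
      intro g hg
      have hcj : ∀ {u v : G}, u * v ≠ v * u → (g * u * g⁻¹) * (g * v * g⁻¹) ≠ (g * v * g⁻¹) * (g * u * g⁻¹) := by
        intro u v huv h1
        apply huv
        have h2 : g * (u * v) * g⁻¹ = g * (v * u) * g⁻¹ := by
          calc g * (u * v) * g⁻¹ = (g * u * g⁻¹) * (g * v * g⁻¹) := by group
            _ = (g * v * g⁻¹) * (g * u * g⁻¹) := h1
            _ = g * (v * u) * g⁻¹ := by group
        exact mul_left_cancel (mul_right_cancel h2)
      have hcc : ∀ {u v : G}, Commute u v → Commute (g * u * g⁻¹) (g * v * g⁻¹) := by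
        intro u v huv
        show (g * u * g⁻¹) * (g * v * g⁻¹) = (g * v * g⁻¹) * (g * u * g⁻¹)
        calc (g * u * g⁻¹) * (g * v * g⁻¹) = g * (u * v) * g⁻¹ := by group
          _ = g * (v * u) * g⁻¹ := by rw [huv.eq]
          _ = (g * v * g⁻¹) * (g * u * g⁻¹) := by group
      have hPm : ∀ y : Q, (y : G) ∈ F → g * y * g⁻¹ ∈ F ⊓ Q.map (MulAut.conj g).toMonoidHom := by
        intro y hy
        exact mem_inf.2 ⟨hg y hy, ⟨y, y.2, rfl⟩⟩
      obtain ⟨a, haP, haS, b, hbP, hbS, hab⟩ := exists_pair (P := F ⊓ Q.map (MulAut.conj g).toMonoidHom) (S := Q)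
        (fun a ha b hb => hprod a (mem_inf.1 ha).1 b (mem_inf.1 hb).1)
        (hPm y2 hF2) (hPm y2' hF2') (hPm y3 hF3) (hPm y3' hF3')
        (hcj (hnc 2 y2 y2' (by rw [hy2, hone]) hy2')) (hcj (hnc 3 y3 y3' (by rw [hy3, hone]) hy3'))
        (hcc (hcm y2 y3 2 3 _ _ (by decide) hy2 hy3)) (hcc (hcm y2 y3' 2 3 _ _ (by decide) hy2 hy3'))
        (hcc (hcm y2' y3 2 3 _ _ (by decide) hy2' hy3)) (hcc (hcm y2' y3' 2 3 _ _ (by decide) hy2' hy3'))
      obtain ⟨a', ha', ha2⟩ := (mem_inf.1 haP).2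
      obtain ⟨b', hb', hb2⟩ := (mem_inf.1 hbP).2
      have ha3 : g * a' * g⁻¹ = a := ha2
      have hb3 : g * b' * g⁻¹ = b := hb2
      have h1 := Cfsg.Agent.Omega.Shadow.comm_eq h haS hbS hab
      have hab' : a' * b' ≠ b' * a' := by
        intro h2
        apply hab
        rw [← ha3, ← hb3]
        exact (hcc (show Commute a' b' from h2)).eq
      have h2 := Cfsg.Agent.Omega.Shadow.comm_eq h ha' hb' hab'
      have h3 : g * z * g⁻¹ = z := by
        calc g * z * g⁻¹ = g * (a' * b' * a'⁻¹ * b'⁻¹) * g⁻¹ := by rw [h2]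
          _ = a * b * a⁻¹ * b⁻¹ := by rw [← ha3, ← hb3]; group
          _ = z := h1
      exact mul_inv_eq_iff_eq_mul.1 h3
    have hRF : F = R := by
      by_contra hne
      obtain ⟨n, hn1, hn2, hn3⟩ :=
        Cfsg.Agent.Involutions.BaerSuzuki.exists_mem_normalizer_of_lt hR2 (lt_of_le_of_ne inf_le_left hne)
      exact hn2 (memF.2 ⟨hn1, key n fun f hf => (mem_normalizer_iff.1 hn3 f).1 hf⟩)
    apply key
    intro f hf
    rw [hRF] at hf ⊢
    exact (mem_normalizer_iff.1 (hYR (memY.2 ht)) f).1 hf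

/-- the centraliser of every involution has characteristic 2 -/
def Char2 (G : Type*) [Group G] : Prop :=
  ∀ x : G, x * x = 1 → x ≠ 1 → centralizer ({x} : Set G) ⊓ centralizer (o2 (centralizer ({x} : Set G)) : Set G) ≤
    o2 (centralizer ({x} : Set G))

/-- **`C_G(x) ≤ C_G(z)` for `x` of `R`-type** -/
theorem le_cent [Finite G] (fd : FrameData h N M F4) (hs : Std (grp fd)) (hN : N.Normal) (hM : M.Normal)
    (hC : Char2 G) {x : Q} (hx2 : (x : G) * x = 1) (hR : IsR (lb fd x)) {t : G} (ht : t * x = x * t) :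
    t * z = z * t := by
  obtain ⟨A, ⟨m, hm, hmv⟩, hAx⟩ := hs.transR hR isR_u2
  obtain ⟨hx1, hxz⟩ := isR_ne fd hR
  have hfm : ∀ w, fn fd m w = A • w := by
    intro w
    obtain ⟨v, rfl⟩ := fd.lab.surjective w
    rw [fn_lab, hmv]
  have hmz : (m : G) * z = z * m := mem_centralizer_singleton_iff.1 m.2
  have hu : lb fd (h.conjQ m x) = u2 := by rw [lb_conj, hfm, hAx]
  have hco : ((h.conjQ m x : Q) : G) = m * x * (m : G)⁻¹ := h.conjQ_coe m x
  have hy2 : ((h.conjQ m x : Q) : G) * (h.conjQ m x : Q) = 1 := by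
    rw [hco]
    calc (m : G) * x * (m : G)⁻¹ * (m * x * (m : G)⁻¹) = m * (x * x) * (m : G)⁻¹ := by group
      _ = 1 := by rw [hx2]; group
  have hy1 : ((h.conjQ m x : Q) : G) ≠ 1 := by
    rw [hco]
    intro h1
    apply hx1
    have h2 : (m : G) * x = m := by
      have := mul_inv_eq_iff_eq_mul.1 h1
      rwa [one_mul] at this
    exact mul_eq_left.1 h2
  have h1 := le_cent_u2 fd hs hN hM hy2 hu (hC _ hy2 hy1) (t := m * t * (m : G)⁻¹) (by
    rw [hco]
    calc (m : G) * t * (m : G)⁻¹ * (m * x * (m : G)⁻¹) = m * (t * x) * (m : G)⁻¹ := by group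
      _ = m * (x * t) * (m : G)⁻¹ := by rw [ht]
      _ = m * x * (m : G)⁻¹ * (m * t * (m : G)⁻¹) := by group)
  have hmz' : (m : G)⁻¹ * z = z * (m : G)⁻¹ := ((show Commute (m : G) z from hmz).inv_left).eq
  calc t * z = (m : G)⁻¹ * ((m * t * (m : G)⁻¹) * (m * z)) := by group
    _ = (m : G)⁻¹ * ((m * t * (m : G)⁻¹) * (z * m)) := by rw [hmz]
    _ = (m : G)⁻¹ * ((m * t * (m : G)⁻¹ * z) * m) := by group
    _ = (m : G)⁻¹ * ((z * (m * t * (m : G)⁻¹)) * m) := by rw [h1]
    _ = ((m : G)⁻¹ * z) * (m * t) := by group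
    _ = (z * (m : G)⁻¹) * (m * t) := by rw [hmz']
    _ = z * t := by group

end main

/-! ### pairs -/

section pair

open Cfsg.Agent.LargeExtra.Base Cfsg.Agent.LargeExtra.Local

variable {G : Type*} [Group G] {Q A : Subgroup G} {z a : G}
  {N M : Subgroup (Subgroup.centralizer ({z} : Set G))}

theorem herm_lb {Q : Subgroup G} {h : Large Q z} (fd : FrameData h N M F4) {v : h.V} (hv : h.q v = 0) :
    herm (fd.lab v) (fd.lab v) = 0 := (fd.q_lab v).1 hv

/-- the label of `a` is not of `R`-type -/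
theorem not_isR_a [Finite G] (p : Pair Q z A a) (fd : FrameData p.lz N M F4) (hs : Std (grp fd)) (hN : N.Normal)
    (hM : M.Normal) (hC : Char2 G) : ¬ IsR (lb fd ⟨a, p.a_mem⟩) := by
  intro hR
  have h1 : ∀ t ∈ A, t * z = z * t := fun t ht =>
    le_cent fd hs hN hM hC (x := ⟨a, p.a_mem⟩) p.la.z_sq hR (p.la.comm_z t ht)
  rcases p.la.cent z p.z_mem (fun y hy => (h1 y hy).symm) with h2 | h2
  · exact p.lz.z_ne h2
  · exact p.ne h2.symm

theorem wt_small {v : W} {i j : Fin 6} (hv : ∀ l, l ≠ i → l ≠ j → v l = 0) : wt v ≤ 2 := by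
  rw [← card_supp]
  have : supp v ⊆ {i, j} := by
    intro l hl
    rw [mem_supp] at hl
    rw [Finset.mem_insert, Finset.mem_singleton]
    by_contra hcon
    push Not at hcon
    exact hl (hv l hcon.1 hcon.2)
  exact (Finset.card_le_card this).trans Finset.card_le_two

theorem wt_small3 {v : W} {i j k : Fin 6} (hv : ∀ l, l ≠ i → l ≠ j → l ≠ k → v l = 0) : wt v ≤ 3 := by
  rw [← card_supp]
  have : supp v ⊆ {i, j, k} := by
    intro l hl
    rw [mem_supp] at hl
    rw [Finset.mem_insert, Finset.mem_insert, Finset.mem_singleton]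
    by_contra hcon
    push Not at hcon
    exact hl (hv l hcon.1 hcon.2.1 hcon.2.2)
  exact (Finset.card_le_card this).trans Finset.card_le_three

/-- `D̃` contains a vector of `R`-type if `|D̃| > 4` -/
theorem exists_isR [Finite G] (p : Pair Q z A a) (fd : FrameData p.lz N M F4) (hs : Std (grp fd)) (hN : N.Normal)
    (hM : M.Normal) (hC : Char2 G) (hD : 4 < Nat.card p.D) : ∃ v ∈ p.D, IsR (fd.lab v) := by
  classical
  by_contra hcon
  push Not at hcon
  have hva : p.va ≠ 0 := p.va_ne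
  have hS : IsS (fd.lab p.va) := by
    rcases isR_or_isS (herm_lb fd (p.q_D p.va_mem_D)) (fun h0 => hva (by
      apply fd.lab.injective
      rw [h0, map_zero])) with h1 | h1
    · exact absurd h1 (hcon _ p.va_mem_D)
    · exact h1
  obtain ⟨A0, hA0, hA0a⟩ := hs.transS hS isS_u4
  let D1 : AddSubgroup W :=
    { carrier := {w | ∃ v ∈ p.D, A0 • fd.lab v = w}
      zero_mem' := ⟨0, p.D.zero_mem, by rw [map_zero, smul_zero]⟩
      add_mem' := by
        rintro _ _ ⟨v, hv, rfl⟩ ⟨v', hv', rfl⟩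
        exact ⟨v + v', p.D.add_mem hv hv', by rw [map_add, smul_add]⟩
      neg_mem' := by
        rintro _ ⟨v, hv, rfl⟩
        refine ⟨v, hv, ?_⟩
        rw [eq_neg_iff_add_eq_zero, W_add_self] }
  have hD1 : ∀ {w : W}, w ∈ D1 ↔ ∃ v ∈ p.D, A0 • fd.lab v = w := Iff.rfl
  -- nonzero vectors of `D1` are singular, not of `R`-type
  have hsing : ∀ w ∈ D1, herm w w = 0 := by
    rintro _ ⟨v, hv, rfl⟩
    rw [herm_smul hs.fr hA0]
    exact herm_lb fd (p.q_D hv)
  have hnR : ∀ w ∈ D1, ¬ IsR w := by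
    rintro _ ⟨v, hv, rfl⟩ hR
    exact hcon v hv ((hs.isR_smul hA0).1 hR)
  have hwt : ∀ w ∈ D1, wt w ≤ 3 → w = 0 := by
    intro w hw h3
    by_contra h0
    rcases herm_self_eq (hsing w hw) h0 with h1 | h1 | h1
    · exact hnR w hw (Or.inl h1)
    · omega
    · omega
  have hinv : ∀ B ∈ grp fd, B • u4 = u4 → ∀ w ∈ D1, B • w ∈ D1 := by
    rintro B hB hB4 _ ⟨v, hv, rfl⟩
    have hB' : A0⁻¹ * B * A0 ∈ grp fd := mul_mem (mul_mem (inv_mem hA0) hB) hA0
    obtain ⟨m, hm, hmv⟩ := hB'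
    have h1 : p.lz.act m p.va = p.va := by
      apply fd.lab.injective
      rw [hmv, mul_smul, mul_smul, hA0a, hB4, ← hA0a, inv_smul_smul]
    refine ⟨p.lz.act m v, p.D_inv ⟨m, rfl⟩ h1 hv, ?_⟩
    rw [hmv, mul_smul, mul_smul, smul_inv_smul]
  obtain ⟨B, hB, -, hBv⟩ := exists_diag2 hs.fr (i := 4) (j := 5) (by decide) (by decide) (by decide)
  have hB4 : B • u4 = u4 := by
    funext l
    rw [hBv]
    fin_cases l <;> rfl
  have h45 : ∀ w ∈ D1, w 4 = 0 ∧ w 5 = 0 := by
    intro w hw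
    have hy : w + B • w ∈ D1 := D1.add_mem hw (hinv B hB hB4 w hw)
    have k1 : ∀ x : F4, x + F4.o * x = 0 := by decide
    have h1 : w + B • w = 0 := by
      apply hwt _ hy
      have h2 : wt (w + B • w) ≤ 2 := by
        apply wt_small (i := 4) (j := 5)
        intro l h4 h5
        rw [Pi.add_apply, hBv, if_neg h4, if_neg h5, k1]
      omega
    have k2 : ∀ x : F4, x + F4.w * x = 0 → x = 0 := by decide
    have k3 : ∀ x : F4, x + F4.v * x = 0 → x = 0 := by decide
    constructor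
    · apply k2
      have := congrFun h1 4
      rwa [Pi.add_apply, hBv, if_pos rfl] at this
    · apply k3
      have := congrFun h1 5
      rwa [Pi.add_apply, hBv, if_neg (by decide), if_pos rfl] at this
  have hinj : Function.Injective fun v : p.D => (A0 • fd.lab (v : p.lz.V)) 0 := by
    intro v v' hvv
    have hvv : (A0 • fd.lab (v : p.lz.V)) 0 = (A0 • fd.lab (v' : p.lz.V)) 0 := hvv
    apply Subtype.ext
    have hd : A0 • fd.lab (v : p.lz.V) + A0 • fd.lab (v' : p.lz.V) ∈ D1 :=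
      D1.add_mem ⟨v, v.2, rfl⟩ ⟨v', v'.2, rfl⟩
    have h0 : A0 • fd.lab (v : p.lz.V) + A0 • fd.lab (v' : p.lz.V) = 0 := by
      apply hwt _ hd
      apply wt_small3 (i := 1) (j := 2) (k := 3)
      intro l h1 h2 h3
      have hl : l = 0 ∨ l = 4 ∨ l = 5 := by
        revert h1 h2 h3; fin_cases l <;> decide
      rcases hl with rfl | rfl | rfl
      · rw [Pi.add_apply, hvv, add_self]
      · exact (h45 _ hd).1
      · exact (h45 _ hd).2
    apply fd.lab.injective
    have h1 : A0 • fd.lab (v : p.lz.V) = A0 • fd.lab (v' : p.lz.V) := by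
      have h2 : A0 • fd.lab (v : p.lz.V) + A0 • fd.lab (v' : p.lz.V) + A0 • fd.lab (v' : p.lz.V) =
          0 + A0 • fd.lab (v' : p.lz.V) := by rw [h0]
      rwa [add_assoc, W_add_self, add_zero, zero_add] at h2
    have h3 := congrArg (fun w => A0⁻¹ • w) h1
    simpa only [inv_smul_smul] using h3
  have h1 := Nat.card_le_card_of_injective _ hinj
  have h2 : Nat.card F4 = 4 := Nat.card_eq_fintype_card.trans rfl
  omega

/-- **the row U4(3) is empty** -/
theorem false_of_pair [Finite G] (p : Pair Q z A a) (fd : FrameData p.lz N M F4) (hs : Std (grp fd)) (hN : N.Normal)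
    (hM : M.Normal) (hC : Char2 G) (hD : 4 < Nat.card p.D) : False := by
  obtain ⟨v, hv, hR⟩ := exists_isR p fd hs hN hM hC hD
  obtain ⟨x, rfl⟩ := p.lz.pr_surjective v
  have hxA : (x : G) ∈ A := (p.pr_mem_D x).1 hv
  have hRx : IsR (lb fd x) := hR
  obtain ⟨hx1, hxz⟩ := isR_ne fd hRx
  have hx2 : (x : G) * x = 1 := p.sq_D x.2 hxA
  have hza : z ≠ x * a := by
    intro h1
    apply not_isR_a p fd hs hN hM hC
    have h2 : (x : G) = a * z := by
      have h3 : (x : G) = z * a⁻¹ := by rw [h1]; group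
      have h4 : a⁻¹ = a := inv_eq_of_mul_eq_one_left p.la.z_sq
      rw [h3, h4, p.comm_za]
    have h3 : lb fd x = lb fd ⟨a, p.a_mem⟩ := by
      unfold lb
      congr 1
      exact p.lz.pr_eq_pr.2 (Or.inr h2)
    rwa [← h3]
  obtain ⟨e, he, hex, hez⟩ := Cfsg.Agent.Omega.Shadow.exists_not_comm p.la hxA p.z_mem p.lz.z_ne p.ne.symm
    hxz.symm hza
  exact hez (le_cent fd hs hN hM hC hx2 hRx hex)

end pair

end Cfsg.Agent.Omega.EH3.UFour.Kill

end

section


/-!
# EH3, row `U₄(3)`: `PSU(4, 3)` does not act faithfully on `2^12` (helper586)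

`U : UData S` (an elementary abelian `3⁴` in `S` with five elements normalising it): the hyperplanes of `3⁴` fall into
orbits of lengths 10, 15, 15 under the normaliser, so a faithful module over `F₂` has at least `4^7` elements.
-/

set_option autoImplicit false

namespace Cfsg.Agent.Omega.EH3.UFour.NoTriv

open Cfsg.Agent.R08.FrameAData Cfsg.Agent.R08.FrameAWeights Cfsg.Agent.R08.FrameAGroup

/-- the elementary abelian group `3⁴`, additively -/
abbrev T := Fin 4 → ZMod 3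

/-- the elementary abelian group `3⁴` -/
abbrev P := Multiplicative T

/-! ### Functionals and hyperplanes -/

/-- the hyperplane of a functional -/
def kr (f : T) : Subgroup P where
  carrier := {p | f ⬝ᵥ (p.toAdd) = 0}
  one_mem' := dotProduct_zero f
  mul_mem' := fun {a b} ha hb => by
    show f ⬝ᵥ (a.toAdd + b.toAdd) = 0
    rw [dotProduct_add, show f ⬝ᵥ a.toAdd = 0 from ha, show f ⬝ᵥ b.toAdd = 0 from hb, add_zero]
  inv_mem' := fun {a} ha => by
    show f ⬝ᵥ (-a.toAdd) = 0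
    rw [dotProduct_neg, show f ⬝ᵥ a.toAdd = 0 from ha, neg_zero]

theorem mem_kr {f : T} {p : P} : p ∈ kr f ↔ f ⬝ᵥ p.toAdd = 0 := Iff.rfl

theorem zmod_sq : ∀ x : ZMod 3, x ≠ 0 → x * x = 1 := by decide
theorem zmod_cases : ∀ x : ZMod 3, x = 0 ∨ x = 1 ∨ x = -1 := by decide

/-- functionals with the same hyperplane agree up to sign -/
theorem eq_or_neg {f f' : T} (hf : f ≠ 0) (hf' : f' ≠ 0) (h : kr f ≤ kr f') : f' = f ∨ f' = -f := by
  obtain ⟨i, hi⟩ := Function.ne_iff.1 hf
  have h1 : ∀ j, f' j * f i = f' i * f j := by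
    intro j
    have h2 : Multiplicative.ofAdd (Pi.single j (f i) - Pi.single i (f j)) ∈ kr f := by
      rw [mem_kr, toAdd_ofAdd, dotProduct_sub, dotProduct_single, dotProduct_single, mul_comm, sub_self]
    have h3 := h h2
    rw [mem_kr, toAdd_ofAdd, dotProduct_sub, dotProduct_single, dotProduct_single] at h3
    exact sub_eq_zero.1 h3
  have h2 : ∀ j, f' j = (f' i * f i) * f j := by
    intro j
    calc f' j = f' j * (f i * f i) := by rw [zmod_sq _ hi, mul_one]
      _ = (f' j * f i) * f i := by ring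
      _ = _ := by rw [h1 j]; ring
  rcases zmod_cases (f' i * f i) with h0 | h0 | h0
  · exfalso
    apply hf'
    funext j
    rw [h2 j, h0, zero_mul]; rfl
  · left
    funext j
    rw [h2 j, h0, one_mul]
  · right
    funext j
    rw [h2 j, h0, neg_one_mul]; rfl

theorem index_kr {f : T} (hf : f ≠ 0) : (kr f).index = 3 := by
  obtain ⟨i, hi⟩ := Function.ne_iff.1 hf
  let g : Fn P :=
    { toFun := fun p => Multiplicative.ofAdd (f ⬝ᵥ p.toAdd)
      map_one' := congrArg Multiplicative.ofAdd (dotProduct_zero f)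
      map_mul' := fun a b => congrArg Multiplicative.ofAdd (dotProduct_add f a.toAdd b.toAdd) }
  have h1 : g.ker = kr f := by
    ext p
    exact Iff.rfl
  rw [← h1]
  refine index_ker (p := Multiplicative.ofAdd (Pi.single i 1)) fun h => hi ?_
  have h2 : f ⬝ᵥ (Pi.single i 1) = 0 := h
  rw [dotProduct_single, mul_one] at h2
  exact h2

theorem cube (p : P) : p ^ 3 = 1 := by
  have : ∀ x : ZMod 3, 3 • x = 0 := by decide
  apply Multiplicative.toAdd.injective
  rw [toAdd_pow, toAdd_one]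
  funext i
  exact this _

/-- every hyperplane comes from a functional -/
theorem exists_kr {W : Subgroup P} (hW : W.index = 3) : ∃ f : T, f ≠ 0 ∧ W = kr f := by
  obtain ⟨b, hb⟩ : ∃ b : P, b ∉ W := by
    by_contra h
    push Not at h
    have : W = ⊤ := (Subgroup.eq_top_iff' W).2 h
    rw [this, Subgroup.index_top] at hW
    norm_num at hW
  have hb1 : (QuotientGroup.mk b : P ⧸ W) ≠ 1 := fun h => hb ((QuotientGroup.eq_one_iff b).1 h)
  have : Fintype (P ⧸ W) := Fintype.ofFinite _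
  obtain ⟨g, hg⟩ := exists_fn (P := P ⧸ W) (fun p => by
    obtain ⟨q, rfl⟩ := QuotientGroup.mk_surjective p
    rw [← QuotientGroup.mk_pow, cube, QuotientGroup.mk_one]) hb1
  let f : Fn P := g.comp (QuotientGroup.mk' W)
  have hfb : f b ≠ 1 := by
    show g (QuotientGroup.mk b) ≠ 1
    rw [hg]; decide
  have hle : W ≤ f.ker := by
    intro w hw
    rw [MonoidHom.mem_ker]
    show g (QuotientGroup.mk w) = 1
    rw [(QuotientGroup.eq_one_iff w).2 hw, map_one]
  have hWf : W = f.ker := by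
    refine Subgroup.eq_of_le_of_card_ge hle ?_
    have h1 := W.card_mul_index
    have h2 := f.ker.card_mul_index
    rw [hW] at h1
    rw [index_ker hfb] at h2
    omega
  let F : T := fun i => (f (Multiplicative.ofAdd (Pi.single i 1))).toAdd
  let f1 : T →+ ZMod 3 :=
    { toFun := fun a => (f (Multiplicative.ofAdd a)).toAdd
      map_zero' := by rw [ofAdd_zero, map_one, toAdd_one]
      map_add' := fun a b => by rw [ofAdd_add, map_mul, toAdd_mul] }
  let f2 : T →+ ZMod 3 :=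
    { toFun := fun a => F ⬝ᵥ a
      map_zero' := dotProduct_zero F
      map_add' := fun a b => dotProduct_add F a b }
  have h12 : f1 = f2 := by
    refine hom_ext f1 f2 fun i => ?_
    show (f (Multiplicative.ofAdd (Pi.single i 1))).toAdd = F ⬝ᵥ (Pi.single i 1)
    rw [dotProduct_single, mul_one]
  have h3 : ∀ p : P, (f p).toAdd = F ⬝ᵥ p.toAdd := fun p => DFunLike.congr_fun h12 p.toAdd
  have hk : W = kr F := by
    rw [hWf]
    ext p
    rw [MonoidHom.mem_ker, mem_kr, ← h3]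
    exact Iff.rfl
  refine ⟨F, ?_, hk⟩
  rintro h0
  apply hb
  rw [hk, mem_kr, h0, zero_dotProduct]

/-! ### The dual maps -/

/-- dual of `gh` -/
def dh (f : T) : T := ![f 2, 2 * f 1 + 2 * f 2, f 0 + 2 * f 1 + 2 * f 2 + f 3, 2 * f 2 + f 3]
/-- dual of `gd` -/
def dd (f : T) : T := ![2 * f 0, f 3, 2 * f 2, 2 * f 1]
/-- dual of `gw` -/
def dw (f : T) : T := ![f 2, f 1, f 0, 2 * f 3]
/-- dual of `g1` -/
def d1 (f : T) : T := ![f 0, f 1, f 0 + f 2 + f 3, 2 * f 0 + f 3]
/-- dual of `g2` -/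
def d2 (f : T) : T := ![f 0, f 0 + f 1, f 0 + 2 * f 1 + f 2, f 3]

theorem dot_h (f a : T) : dh f ⬝ᵥ a = f ⬝ᵥ gh a := by
  simp [dotProduct, Fin.sum_univ_four, gh, dh]; ring
theorem dot_d (f a : T) : dd f ⬝ᵥ a = f ⬝ᵥ gd a := by
  simp [dotProduct, Fin.sum_univ_four, gd, dd]; ring
theorem dot_w (f a : T) : dw f ⬝ᵥ a = f ⬝ᵥ gw a := by
  simp [dotProduct, Fin.sum_univ_four, gw, dw]; ring
theorem dot_1 (f a : T) : d1 f ⬝ᵥ a = f ⬝ᵥ g1 a := by
  simp [dotProduct, Fin.sum_univ_four, g1, d1]; ring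
theorem dot_2 (f a : T) : d2 f ⬝ᵥ a = f ⬝ᵥ g2 a := by
  simp [dotProduct, Fin.sum_univ_four, g2, d2]; ring

/-- eight words -/
def ws : Fin 8 → T → T :=
  ![id, dh, dh ∘ dh, dh ∘ dh ∘ dh, dw ∘ dh ∘ dw, d1 ∘ dw ∘ dd, d2 ∘ d2 ∘ dd, d1 ∘ dw ∘ dd ∘ dh]

theorem ws_sep : ∀ f : T, f ≠ 0 → ∃ i0 : Fin 8, ∀ i : Fin 8, i ≠ i0 → ∀ j : Fin 8, j ≠ i0 → i ≠ j →
    ws i f ≠ ws j f ∧ ws i f ≠ -ws j f := by
  decide +kernel

/-! ### The action -/

section act

variable {S V : Type*} [Group S] [AddCommGroup V] [DistribMulAction S V]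

/-- `3⁴` as a homomorphism -/
def tHom (U : UData S) : P →* S where
  toFun p := U.t p.toAdd
  map_one' := by
    have h := U.t_add 0 0
    rw [add_zero] at h
    exact left_eq_mul.1 h
  map_mul' a b := U.t_add _ _

/-- `3⁴` acts on `V` -/
@[reducible] def act (U : UData S) : DistribMulAction P V := DistribMulAction.compHom V (tHom U)

/-- the weight functionals are permuted by the elements of `S` normalising `3⁴` -/
theorem comp_step (U : UData S) {y : S} {g : T → T} (hg : ∀ a b, g (a + b) = g a + g b)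
    (hy : ∀ a, y * U.t a * y⁻¹ = U.t (g a)) {f f' : T} (hd : ∀ a, f' ⬝ᵥ a = f ⬝ᵥ g a) :
    letI := act (V := V) U
    Comp V (kr f) ≠ ⊥ → Comp V (kr f') ≠ ⊥ := by
  let _ := act (V := V) U
  intro h h'
  apply h
  rw [AddSubgroup.eq_bot_iff_forall] at h' ⊢
  intro v hv
  have hs : ∀ a : T, U.t a * y⁻¹ = y⁻¹ * U.t (g a) := by
    intro a
    rw [← hy]; group
  have hsm : ∀ p : P, p • (y⁻¹ • v) = y⁻¹ • ((Multiplicative.ofAdd (g p.toAdd)) • v) := by
    intro p
    show U.t p.toAdd • y⁻¹ • v = y⁻¹ • U.t (g p.toAdd) • v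
    rw [smul_smul, smul_smul, hs]
  have h1 : y⁻¹ • v ∈ Comp V (kr f') := by
    refine ⟨fun p hp => ?_, fun p hp => ?_⟩
    · rw [hsm, hv.1]
      rw [mem_kr] at hp ⊢
      rw [toAdd_ofAdd, ← hd]
      exact hp
    · rw [hsm, hsm, ← smul_add, ← smul_add, toAdd_mul, hg, ofAdd_add, hv.2, smul_zero]
      intro h2
      apply hp
      rw [mem_kr] at h2 ⊢
      rw [hd]
      exact h2
  exact (smul_eq_zero_iff_eq y⁻¹).1 (h' _ h1)

theorem four_le_card {P : Type*} [CommGroup P] [DistribMulAction P V] [Finite V] (hV : ∀ v : V, v + v = 0)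
    (h3 : ∀ p : P, p ^ 3 = 1) {W : Subgroup P} (hW : W.index = 3) (hW0 : Comp V W ≠ ⊥) :
    4 ≤ Nat.card (Comp V W) := by
  obtain ⟨v, hv, hv0⟩ : ∃ v ∈ Comp V W, v ≠ 0 := by
    by_contra h
    push Not at h
    exact hW0 ((AddSubgroup.eq_bot_iff_forall _).2 h)
  obtain ⟨b, hb⟩ : ∃ b : P, b ∉ W := by
    by_contra h
    push Not at h
    have : W = ⊤ := (Subgroup.eq_top_iff' W).2 h
    rw [this, Subgroup.index_top] at hW
    norm_num at hW
  have h3' : b * b * b = 1 := by have := h3 b; rwa [pow_succ, pow_two] at this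
  have hst : ∀ p : P, p • v ∈ Comp V W := by
    intro p
    refine ⟨fun w hw => ?_, fun q hq => ?_⟩
    · rw [smul_smul, mul_comm, mul_smul, hv.1 w hw]
    · have : p • v + q • p • v + (q * q) • p • v = p • (v + q • v + (q * q) • v) := by
        simp only [smul_add, smul_smul]
        rw [mul_comm q p, mul_comm (q * q) p]
      rw [this, hv.2 q hq, smul_zero]
  have hne : ∀ p : P, p • v ≠ 0 := fun p h => hv0 ((smul_eq_zero_iff_eq p).1 h)
  have h0 := hv.2 b hb
  have hb1 : b • v ≠ v := by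
    intro h
    rw [mul_smul, h, h, hV, zero_add] at h0
    exact hv0 h0
  have hb2 : (b * b) • v ≠ v := by
    intro h
    apply hb1
    have : b • ((b * b) • v) = b • v := by rw [h]
    rw [smul_smul, ← mul_assoc, h3', one_smul] at this
    exact this.symm
  have hb3 : (b * b) • v ≠ b • v := by
    intro h
    rw [mul_smul] at h
    exact hb1 (MulAction.injective b h)
  let f : Fin 4 → Comp V W := ![0, ⟨v, hv⟩, ⟨b • v, hst b⟩, ⟨(b * b) • v, hst _⟩]
  have hinj : Function.Injective f := by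
    have e0 : (f 0 : V) = 0 := rfl
    have e1 : (f 1 : V) = v := rfl
    have e2 : (f 2 : V) = b • v := rfl
    have e3 : (f 3 : V) = (b * b) • v := rfl
    intro i j hij
    have hij' : (f i : V) = f j := congrArg Subtype.val hij
    fin_cases i <;> fin_cases j <;> first | rfl | exfalso
    · exact hv0 (e1.symm.trans (hij'.symm.trans e0))
    · exact hne b (e2.symm.trans (hij'.symm.trans e0))
    · exact hne _ (e3.symm.trans (hij'.symm.trans e0))
    · exact hv0 (e1.symm.trans (hij'.trans e0))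
    · exact hb1 (e2.symm.trans (hij'.symm.trans e1))
    · exact hb2 (e3.symm.trans (hij'.symm.trans e1))
    · exact hne b (e2.symm.trans (hij'.trans e0))
    · exact hb1 (e2.symm.trans (hij'.trans e1))
    · exact hb3 (e3.symm.trans (hij'.symm.trans e2))
    · exact hne _ (e3.symm.trans (hij'.trans e0))
    · exact hb2 (e3.symm.trans (hij'.trans e1))
    · exact hb3 (e3.symm.trans (hij'.trans e2))
  have := Nat.card_le_card_of_injective f hinj
  rwa [Nat.card_eq_fintype_card, Fintype.card_fin] at this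

theorem pow_le_card {P : Type*} [CommGroup P] [Finite P] [DistribMulAction P V] [Finite V] (hV : ∀ v : V, v + v = 0)
    (h3 : ∀ p : P, p ^ 3 = 1) {ι : Type*} [Fintype ι] (W : ι → Subgroup P) (hW : ∀ i, (W i).index = 3)
    (hW0 : ∀ i, Comp V (W i) ≠ ⊥) (hinj : Function.Injective W) : 4 ^ Fintype.card ι ≤ Nat.card V := by
  have : Fintype P := Fintype.ofFinite _
  have hin : Function.Injective (fun u : (i : ι) → Comp V (W i) => ∑ i, (u i : V)) := by
    intro u v huv
    have huv' : ∑ i, (u i : V) = ∑ i, (v i : V) := huv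
    have h1 : ∑ i, ((u i : V) - v i) = 0 := by
      rw [Finset.sum_sub_distrib, huv', sub_self]
    funext i
    apply Subtype.ext
    have := eq_zero_of_sum h3 hV W hW hinj (fun i => (u i : V) - v i)
      (fun i => (Comp V (W i)).sub_mem (u i).2 (v i).2) h1 i
    exact sub_eq_zero.1 this
  have h1 := Nat.card_le_card_of_injective _ hin
  rw [Nat.card_pi] at h1
  refine le_trans ?_ h1
  rw [← Finset.card_univ, ← Finset.prod_const]
  exact Finset.prod_le_prod' fun i _ => four_le_card hV h3 (hW i) (hW0 i)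

theorem gh_add (a b : T) : gh (a + b) = gh a + gh b := Cfsg.Agent.R08.FrameAData.gh_add a b

/-- **`PSU(4, 3)` does not act faithfully on `2^12`** -/
theorem false_of_uData [Finite V] (U : UData S) (hV : ∀ v : V, v + v = 0)
    (hf : ∀ g : S, (∀ v : V, g • v = v) → g = 1) (hc : Nat.card V ≤ 4096) : False := by
  let _ := act (V := V) U
  have hsm : ∀ (p : P) (v : V), p • v = U.t p.toAdd • v := fun _ _ => rfl
  -- there is a weight
  obtain ⟨f, hf0, hfc⟩ : ∃ f : T, f ≠ 0 ∧ Comp V (kr f) ≠ ⊥ := by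
    by_contra hno
    push Not at hno
    have h1 : Fix P V = ⊤ := by
      refine eq_top_of_comp cube hV (Fix P V) le_rfl fun W hW => ?_
      obtain ⟨f, hf0, rfl⟩ := exists_kr hW
      rw [hno f hf0]
      exact bot_le
    have h2 := U.inj (Pi.single 0 1) (hf _ fun v => by
      have h3 : v ∈ Fix P V := by rw [h1]; trivial
      exact h3 (Multiplicative.ofAdd (Pi.single 0 1)))
    have h3 := congrFun h2 0
    rw [Pi.single_eq_same] at h3
    exact absurd h3 (by decide)
  -- the words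
  have sh : ∀ f : T, f ≠ 0 ∧ Comp V (kr f) ≠ ⊥ → dh f ≠ 0 ∧ Comp V (kr (dh f)) ≠ ⊥ := by
    intro f h
    refine ⟨?_, comp_step U gh_add U.ch (dot_h f) h.2⟩
    have : ∀ f : T, f ≠ 0 → dh f ≠ 0 := by decide +kernel
    exact this f h.1
  have sd : ∀ f : T, f ≠ 0 ∧ Comp V (kr f) ≠ ⊥ → dd f ≠ 0 ∧ Comp V (kr (dd f)) ≠ ⊥ := by
    intro f h
    refine ⟨?_, comp_step U gd_add U.cd (dot_d f) h.2⟩
    have : ∀ f : T, f ≠ 0 → dd f ≠ 0 := by decide +kernel
    exact this f h.1
  have sw : ∀ f : T, f ≠ 0 ∧ Comp V (kr f) ≠ ⊥ → dw f ≠ 0 ∧ Comp V (kr (dw f)) ≠ ⊥ := by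
    intro f h
    refine ⟨?_, comp_step U gw_add U.cw (dot_w f) h.2⟩
    have : ∀ f : T, f ≠ 0 → dw f ≠ 0 := by decide +kernel
    exact this f h.1
  have s1 : ∀ f : T, f ≠ 0 ∧ Comp V (kr f) ≠ ⊥ → d1 f ≠ 0 ∧ Comp V (kr (d1 f)) ≠ ⊥ := by
    intro f h
    refine ⟨?_, comp_step U g1_add U.c1 (dot_1 f) h.2⟩
    have : ∀ f : T, f ≠ 0 → d1 f ≠ 0 := by decide +kernel
    exact this f h.1
  have s2 : ∀ f : T, f ≠ 0 ∧ Comp V (kr f) ≠ ⊥ → d2 f ≠ 0 ∧ Comp V (kr (d2 f)) ≠ ⊥ := by
    intro f h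
    refine ⟨?_, comp_step U g2_add U.c2 (dot_2 f) h.2⟩
    have : ∀ f : T, f ≠ 0 → d2 f ≠ 0 := by decide +kernel
    exact this f h.1
  have hws : ∀ i : Fin 8, ws i f ≠ 0 ∧ Comp V (kr (ws i f)) ≠ ⊥ := by
    have h0 : f ≠ 0 ∧ Comp V (kr f) ≠ ⊥ := ⟨hf0, hfc⟩
    intro i
    fin_cases i
    · exact h0
    · exact sh _ h0
    · exact sh _ (sh _ h0)
    · exact sh _ (sh _ (sh _ h0))
    · exact sw _ (sh _ (sw _ h0))
    · exact s1 _ (sw _ (sd _ h0))
    · exact s2 _ (s2 _ (sd _ h0))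
    · exact s1 _ (sw _ (sd _ (sh _ h0)))
  obtain ⟨i0, hi0⟩ := ws_sep f hf0
  have h7 := pow_le_card (V := V) hV cube (fun i : {i : Fin 8 // i ≠ i0} => kr (ws i.1 f))
    (fun i => index_kr (hws i.1).1) (fun i => (hws i.1).2) (by
      intro i j hij
      by_contra hne
      have hne' : i.1 ≠ j.1 := fun h => hne (Subtype.ext h)
      obtain ⟨h1, h2⟩ := hi0 i.1 i.2 j.1 j.2 hne'
      rcases eq_or_neg (hws j.1).1 (hws i.1).1 (le_of_eq (show kr (ws i.1 f) = kr (ws j.1 f) from hij).symm) with h | h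
      · exact h1 h
      · exact h2 h)
  have h8 : Fintype.card {i : Fin 8 // i ≠ i0} = 7 := by
    rw [Fintype.card_subtype_compl, Fintype.card_fin, Fintype.card_subtype_eq]
  rw [h8] at h7
  have : (4 : ℕ) ^ 7 ≤ 4096 := h7.trans hc
  norm_num at this

end act

end Cfsg.Agent.Omega.EH3.UFour.NoTriv

end
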